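import Groth.Prelude.Def_GSzMilK
import Mathlib.Data.Matrix.Basic
import Mathlib.LinearAlgebra.Multilinear.Curry
import Mathlib.GroupTheory.Perm.Fin
import Mathlib.GroupTheory.Perm.Sign
import Mathlib.Tactic.FieldSimp
import Mathlib.Tactic.Ring
import Mathlib.Tactic.LinearCombination
import Mathlib.Tactic.Abel
import Mathlib.Tactic.Module

/-! Elementary identities in the Milnor K-groups of a field. -/

namespace GrothLib.MilnorK

open MilK Function

universe u w

variable {F : Type u} [Field F] {n m : ℕ}

variable (F n) in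
/-- The symbol as a multilinear map. -/
noncomputable def symML : MultilinearMap ℤ (fun _ : Fin n => Additive Fˣ) (K F n) :=
  ((mk F n).toIntLinearMap).compMultilinearMap (PiTensorProduct.tprod ℤ)

theorem symML_apply (x : Fin n → Additive Fˣ) : symML F n x = symbol fun i => (x i).toMul := rfl

theorem ofMul_update (x : Fin n → Fˣ) (i : Fin n) (a : Fˣ) :
    (fun l => Additive.ofMul (update x i a l)) =
      update (fun l => Additive.ofMul (x l)) i (Additive.ofMul a) := by
  funext l
  rw [update_apply, update_apply]
  split_ifs <;> rfl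

theorem symbol_update (x : Fin n → Fˣ) (i : Fin n) (a : Fˣ) :
    (symbol (update x i a) : K F n) =
      symML F n (update (fun l => Additive.ofMul (x l)) i (Additive.ofMul a)) := by
  rw [← ofMul_update]; rfl

theorem symbol_update_mul (x : Fin n → Fˣ) (i : Fin n) (a b : Fˣ) :
    (symbol (update x i (a * b)) : K F n) = symbol (update x i a) + symbol (update x i b) := by
  simp only [symbol_update, ofMul_mul]
  exact (symML F n).map_update_add _ i _ _

theorem symbol_update_inv (x : Fin n → Fˣ) (i : Fin n) (a : Fˣ) :
    (symbol (update x i a⁻¹) : K F n) = -symbol (update x i a) := by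
  simp only [symbol_update, ofMul_inv]
  exact (symML F n).map_update_neg _ i _

theorem symbol_update_one (x : Fin n → Fˣ) (i : Fin n) :
    (symbol (update x i 1) : K F n) = 0 := by
  simp only [symbol_update, ofMul_one]
  exact (symML F n).map_update_zero _ i

theorem symbol_eq_zero_of_eq_one {x : Fin n → Fˣ} {i : Fin n} (h : x i = 1) :
    (symbol x : K F n) = 0 := by
  rw [← update_eq_self i x, h]; exact symbol_update_one x i

theorem induction_symbol {p : K F n → Prop} (zero : p 0) (add : ∀ x y, p x → p y → p (x + y))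
    (neg : ∀ x, p x → p (-x)) (sym : ∀ x : Fin n → Fˣ, p (symbol x)) (z : K F n) : p z := by
  obtain ⟨t, rfl⟩ := mk_surjective F n z
  induction t using PiTensorProduct.induction_on with
  | smul_tprod r f =>
    rw [map_zsmul]
    induction r using Int.induction_on with
    | zero => rw [zero_smul]; exact zero
    | succ k ih => rw [add_smul, one_smul]; exact add _ _ ih (sym fun i => (f i).toMul)
    | pred k ih =>
      rw [sub_smul, one_smul, sub_eq_add_neg]; exact add _ _ ih (neg _ (sym fun i => (f i).toMul))
  | add a b ha hb => rw [map_add]; exact add _ _ ha hb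

theorem hom_ext {M : Type w} [AddCommGroup M] {f g : K F n →+ M}
    (h : ∀ x : Fin n → Fˣ, f (symbol x) = g (symbol x)) : f = g :=
  AddMonoidHom.ext fun z => induction_symbol (p := fun z => f z = g z) (by simp)
    (fun x y hx hy => by rw [map_add, map_add, hx, hy]) (fun x hx => by rw [map_neg, map_neg, hx]) h z

theorem mem_closure_symbol (z : K F n) :
    z ∈ AddSubgroup.closure (Set.range (symbol : (Fin n → Fˣ) → K F n)) :=
  induction_symbol (p := fun z => z ∈ AddSubgroup.closure (Set.range (symbol : (Fin n → Fˣ) → K F n)))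
    (zero_mem _) (fun _ _ => add_mem) (fun _ => neg_mem)
    (fun x => AddSubgroup.subset_closure ⟨x, rfl⟩) z

theorem symbol_steinberg (x : Fin n → Fˣ) {i j : Fin n} (hij : i ≠ j)
    (h : (x i : F) + x j = 1) : (symbol x : K F n) = 0 := by
  rcases lt_or_gt_of_ne hij with h' | h'
  · exact symbol_eq_zero_of_isSteinberg x ⟨i, j, h', h⟩
  · exact symbol_eq_zero_of_isSteinberg x ⟨j, i, h', (add_comm _ _).trans h⟩

theorem symbol_steinberg_update (x : Fin n → Fˣ) {i j : Fin n} (hij : i ≠ j) {a b : Fˣ}
    (h : (a : F) + b = 1) : (symbol (update (update x i a) j b) : K F n) = 0 :=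
  symbol_steinberg _ hij (by rw [update_of_ne hij, update_self, update_self]; exact h)

/-- `{…, a, …, -a, …} = 0`. -/
theorem symbol_neg_update (x : Fin n → Fˣ) {i j : Fin n} (hij : i ≠ j) (a : Fˣ) :
    (symbol (update (update x i a) j (-a)) : K F n) = 0 := by
  by_cases ha : a = 1
  · subst ha
    exact symbol_eq_zero_of_eq_one (i := i) (by rw [update_of_ne hij, update_self])
  have h1 : (1 : F) - a ≠ 0 := sub_ne_zero.2 fun h => ha (Units.ext h.symm)
  have h2 : (1 : F) - (a⁻¹ : Fˣ) ≠ 0 := sub_ne_zero.2 fun h => ha (inv_eq_one.1 (Units.ext h.symm))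
  have e : -a = Units.mk0 _ h1 * (Units.mk0 _ h2)⁻¹ := by
    rw [eq_mul_inv_iff_mul_eq]
    apply Units.ext
    have : (a : F) * ((a⁻¹ : Fˣ) : F) = 1 := by simp
    simp only [Units.val_mul, Units.val_neg, Units.val_mk0]
    linear_combination this
  rw [e, symbol_update_mul, symbol_steinberg_update x hij (add_sub_cancel _ _), zero_add,
    symbol_update_inv, update_comm hij]
  have h3 : (symbol (update (update x i a⁻¹) j (Units.mk0 _ h2)) : K F n) = 0 :=
    symbol_steinberg_update x hij (add_sub_cancel _ _)
  rw [update_comm hij, symbol_update_inv] at h3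
  exact h3

theorem symbol_update_swap (x : Fin n → Fˣ) {i j : Fin n} (hij : i ≠ j) (a b : Fˣ) :
    (symbol (update (update x i a) j b) : K F n) + symbol (update (update x i b) j a) = 0 := by
  have h := symbol_neg_update x hij (a * b)
  have e1 : ∀ c d, (symbol (update (update x i (a * b)) j (c * d)) : K F n) =
      symbol (update (update x i a) j c) + symbol (update (update x i a) j d) +
      (symbol (update (update x i b) j c) + symbol (update (update x i b) j d)) := by
    intro c d
    rw [update_comm hij, symbol_update_mul, update_comm hij.symm, update_comm hij.symm,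
      symbol_update_mul, symbol_update_mul]
  have h1 := symbol_neg_update x hij a
  have h2 := symbol_neg_update x hij b
  rw [← neg_mul, e1, h1, zero_add] at h
  have h3 : (symbol (update (update x i b) j b) : K F n) =
      symbol (update (update x i b) j (-b)) + symbol (update (update x i b) j (-1)) := by
    rw [← symbol_update_mul]; congr 2; rw [neg_mul_neg, mul_one]
  have h4 : (symbol (update (update x i b) j (-a)) : K F n) =
      symbol (update (update x i b) j a) + symbol (update (update x i b) j (-1)) := by
    rw [← symbol_update_mul]; congr 2; rw [mul_neg_one]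
  have h5 : (symbol (update (update x i b) j (-1)) : K F n) +
      symbol (update (update x i b) j (-1)) = 0 := by
    rw [← symbol_update_mul, neg_one_mul, neg_neg]; exact symbol_update_one _ _
  rw [h3, h4, h2, zero_add] at h
  calc _ = symbol (update (update x i a) j b) + (symbol (update (update x i b) j a) +
        (symbol (update (update x i b) j (-1)) + symbol (update (update x i b) j (-1)))) := by
          rw [h5, add_zero]
    _ = 0 := by rw [← h]; abel

theorem symbol_comp_swap (x : Fin n → Fˣ) {i j : Fin n} (hij : i ≠ j) :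
    (symbol (x ∘ Equiv.swap i j) : K F n) = -symbol x := by
  have h := symbol_update_swap x hij (x i) (x j)
  rw [update_eq_self, update_eq_self] at h
  rw [eq_neg_iff_add_eq_zero, add_comm]
  convert h using 3
  funext l
  simp only [comp_apply, update_apply, Equiv.swap_apply_def]
  split_ifs <;> simp_all

theorem symbol_comp_perm (x : Fin n → Fˣ) (σ : Equiv.Perm (Fin n)) :
    (symbol (x ∘ σ) : K F n) = ((Equiv.Perm.sign σ : ℤˣ) : ℤ) • symbol x := by
  induction σ using Equiv.Perm.swap_induction_on generalizing x with
  | one => simp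
  | swap_mul f i j hij ih =>
    rw [Equiv.Perm.coe_mul, ← comp_assoc, ih, symbol_comp_swap x hij, map_mul, Equiv.Perm.sign_swap hij,
      Units.val_mul, Units.val_neg, Units.val_one, neg_one_mul, neg_smul, smul_neg]

variable (F n) in
/-- Left multiplication by a unit, as a function of that unit. -/
noncomputable def lmulAux (a : Fˣ) : MultilinearMap ℤ (fun _ : Fin n => Additive Fˣ) (K F (n + 1)) :=
  MultilinearMap.curryLeft (symML F (n + 1)) (Additive.ofMul a)

theorem lmulAux_apply (a : Fˣ) (x : Fin n → Fˣ) :
    lmulAux F n a (fun i => Additive.ofMul (x i)) = symbol (Fin.cons a x) := by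
  rw [lmulAux, MultilinearMap.curryLeft_apply, symML_apply]
  congr 1

/-- Left multiplication by a unit. -/
noncomputable def lmul (a : Fˣ) : K F n →+ K F (n + 1) :=
  lift (lmulAux F n a) fun x hx => by
    rw [lmulAux_apply]
    obtain ⟨i, j, hij, h⟩ := hx
    exact symbol_eq_zero_of_isSteinberg _ ⟨i.succ, j.succ, Fin.succ_lt_succ_iff.2 hij, by simpa using h⟩

@[simp]
theorem lmul_symbol (a : Fˣ) (x : Fin n → Fˣ) : lmul a (symbol x) = symbol (Fin.cons a x) := by
  rw [lmul, lift_symbol, lmulAux_apply]

theorem lmul_mul (a b : Fˣ) (z : K F n) : lmul (a * b) z = lmul a z + lmul b z := by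
  suffices lmul (n := n) (a * b) = lmul a + lmul b from DFunLike.congr_fun this z
  refine hom_ext fun x => ?_
  rw [AddMonoidHom.add_apply, lmul_symbol, lmul_symbol, lmul_symbol]
  have := symbol_update_mul (Fin.cons a x) 0 a b
  rwa [Fin.update_cons_zero, Fin.update_cons_zero, Fin.update_cons_zero] at this

theorem lmul_one (z : K F n) : lmul (1 : Fˣ) z = 0 := by
  have := lmul_mul 1 1 z; rwa [mul_one, left_eq_add] at this

theorem lmul_inv (a : Fˣ) (z : K F n) : lmul a⁻¹ z = -lmul a z := by
  rw [eq_neg_iff_add_eq_zero, ← lmul_mul, inv_mul_cancel, lmul_one]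

/-- Left multiplication as a homomorphism of the unit. -/
noncomputable def lmulHom : Additive Fˣ →+ (K F n →+ K F (n + 1)) :=
  AddMonoidHom.mk' (fun a => lmul a.toMul) fun a b => AddMonoidHom.ext fun z => lmul_mul _ _ z

theorem lmul_zpow (a : Fˣ) (k : ℤ) (z : K F n) : lmul (a ^ k) z = k • lmul a z := by
  have := map_zsmul (lmulHom (n := n)) k (Additive.ofMul a)
  exact DFunLike.congr_fun this z

theorem lmul_lmul_comm (a b : Fˣ) (z : K F n) : lmul a (lmul b z) = -lmul b (lmul a z) := by
  suffices (lmul a).comp (lmul (n := n) b) = -((lmul b).comp (lmul a)) from DFunLike.congr_fun this z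
  refine hom_ext fun x => ?_
  simp only [AddMonoidHom.comp_apply, AddMonoidHom.neg_apply, lmul_symbol]
  rw [← symbol_comp_swap (Fin.cons b (Fin.cons a x)) (show (0 : Fin (n + 2)) ≠ 1 by simp)]
  congr 1
  funext i
  refine Fin.cases ?_ (fun j => ?_) i
  · simp
  refine Fin.cases ?_ (fun l => ?_) j
  · simp
  · rw [comp_apply, Equiv.swap_apply_of_ne_of_ne (Fin.succ_ne_zero _)
      (by rw [show (1 : Fin (n + 2)) = Fin.succ 0 from rfl]; exact fun h =>
        Fin.succ_ne_zero l (Fin.succ_injective _ h))]
    simp

theorem lmul_lmul_steinberg (a b : Fˣ) (h : (a : F) + b = 1) (z : K F n) : lmul a (lmul b z) = 0 := by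
  suffices (lmul a).comp (lmul (n := n) b) = 0 from DFunLike.congr_fun this z
  refine hom_ext fun x => ?_
  simp only [AddMonoidHom.comp_apply, AddMonoidHom.zero_apply, lmul_symbol]
  exact symbol_steinberg _ (show (0 : Fin (n + 2)) ≠ 1 by simp) (by simpa using h)

theorem lmul_lmul_neg (a : Fˣ) (z : K F n) : lmul a (lmul (-a) z) = 0 := by
  suffices (lmul a).comp (lmul (n := n) (-a)) = 0 from DFunLike.congr_fun this z
  refine hom_ext fun x => ?_
  simp only [AddMonoidHom.comp_apply, AddMonoidHom.zero_apply, lmul_symbol]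
  convert symbol_neg_update (Fin.cons a (Fin.cons (-a) x)) (show (0 : Fin (n + 2)) ≠ 1 by simp) a using 2
  rw [Fin.update_cons_zero]
  exact (update_eq_self (1 : Fin (n + 2)) _).symm.trans (by congr 1)

theorem lmul_lmul_self (a : Fˣ) (z : K F n) : lmul a (lmul a z) = lmul a (lmul (-1) z) := by
  conv_lhs => arg 2; rw [show a = -a * -1 by rw [neg_mul_neg, mul_one], lmul_mul]
  rw [map_add, lmul_lmul_neg, zero_add]

theorem two_lmul_neg_one (z : K F n) : lmul (-1 : Fˣ) z + lmul (-1) z = 0 := by
  rw [← lmul_mul, neg_one_mul, neg_neg, lmul_one]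

theorem cast_mul_one (a : Fˣ) (z : K F n) :
    MilK.cast F (Nat.add_comm 1 n) (MilK.mul F 1 n (symbol ![a]) z) = lmul a z := by
  suffices (MilK.cast F (Nat.add_comm 1 n)).toAddMonoidHom.comp (MilK.mul F 1 n (symbol ![a])) =
      lmul a from DFunLike.congr_fun this z
  refine hom_ext fun x => ?_
  rw [AddMonoidHom.comp_apply, AddEquiv.coe_toAddMonoidHom, mul_symbol_symbol, cast_symbol, lmul_symbol]
  congr 1
  funext i
  refine Fin.cases ?_ (fun j => ?_) i
  · rw [comp_apply, show Fin.cast (Nat.add_comm 1 n).symm (0 : Fin (n + 1)) = Fin.castAdd n 0 from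
      Fin.ext rfl, Fin.append_left]
    simp
  · rw [comp_apply, show Fin.cast (Nat.add_comm 1 n).symm j.succ = Fin.natAdd 1 j from
      Fin.ext (by simp [Nat.add_comm]), Fin.append_right]
    simp

theorem map_lmul {E : Type w} [Field E] (φ : F →+* E) (a : Fˣ) (z : K F n) :
    MilK.map φ (n + 1) (lmul a z) = lmul (Units.map (φ : F →* E) a) (MilK.map φ n z) := by
  suffices (MilK.map φ (n + 1)).comp (lmul (n := n) a) =
      (lmul (Units.map (φ : F →* E) a)).comp (MilK.map φ n) from DFunLike.congr_fun this z
  refine hom_ext fun x => ?_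
  simp only [AddMonoidHom.comp_apply, lmul_symbol, map_symbol]
  congr 1
  funext i
  refine Fin.cases ?_ (fun j => ?_) i <;> simp

theorem mul_graded_comm (x : K F n) (y : K F m) :
    MilK.mul F n m x y =
      ((-1 : ℤ) ^ (n * m)) • MilK.cast F (Nat.add_comm m n) (MilK.mul F m n y x) := by
  induction x using induction_symbol with
  | zero => simp
  | add a b ha hb => simp only [map_add, AddMonoidHom.add_apply, ha, hb, smul_add]
  | neg a ha => simp only [map_neg, AddMonoidHom.neg_apply, ha, smul_neg]
  | sym a =>
  induction y using induction_symbol with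
  | zero => simp
  | add p q hp hq => simp only [map_add, AddMonoidHom.add_apply, hp, hq, smul_add]
  | neg p hp => simp only [map_neg, AddMonoidHom.neg_apply, hp, smul_neg]
  | sym b =>
  rw [mul_symbol_symbol, mul_symbol_symbol, cast_symbol]
  rcases Nat.eq_zero_or_pos (n + m) with h0 | hpos
  · obtain ⟨rfl, rfl⟩ : n = 0 ∧ m = 0 := by omega
    rw [Nat.mul_zero, pow_zero, one_smul]
    exact congrArg symbol (funext fun i => i.elim0)
  obtain ⟨N, hN⟩ := Nat.exists_eq_add_of_le hpos
  have hval : ∀ (k : ℕ) (i : Fin (n + m)), ((((finRotate (n + m)) ^ k) i : Fin (n + m)) : ℕ) = (i + k) % (n + m) := by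
    intro k i
    induction k with
    | zero => simp [Nat.mod_eq_of_lt i.isLt]
    | succ k ih =>
      rw [pow_succ', Equiv.Perm.mul_apply]
      have : NeZero (n + m) := ⟨by omega⟩
      rw [finRotate_apply, Fin.val_add, ih, Fin.val_one', Nat.add_mod_mod, Nat.mod_add_mod, add_assoc]
  have hσ : (Fin.append b a ∘ Fin.cast (Nat.add_comm m n).symm) =
      Fin.append a b ∘ ((finRotate (n + m)) ^ n : Equiv.Perm (Fin (n + m))) := by
    funext i
    rw [comp_apply, comp_apply]
    by_cases hi : (i : ℕ) < m
    · rw [show Fin.cast (Nat.add_comm m n).symm i = Fin.castAdd n ⟨i, hi⟩ from Fin.ext rfl,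
        Fin.append_left, show ((finRotate (n + m)) ^ n) i = Fin.natAdd n ⟨i, hi⟩ from Fin.ext (by
          rw [hval, Fin.val_natAdd, Nat.mod_eq_of_lt (by omega)]; exact Nat.add_comm _ _),
        Fin.append_right]
    · have hlt := i.isLt
      have hj : (i : ℕ) - m < n := by omega
      rw [show Fin.cast (Nat.add_comm m n).symm i = Fin.natAdd m ⟨i - m, hj⟩ from Fin.ext (by simp; omega),
        Fin.append_right, show ((finRotate (n + m)) ^ n) i = Fin.castAdd m ⟨i - m, hj⟩ from Fin.ext (by
          rw [hval, Fin.val_castAdd, show (i : ℕ) + n = (i - m) + (n + m) by omega, Nat.add_mod_right,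
            Nat.mod_eq_of_lt (by omega)]),
        Fin.append_left]
  rw [hσ, symbol_comp_perm, smul_smul]
  have hsign : ((Equiv.Perm.sign ((finRotate (n + m)) ^ n) : ℤˣ) : ℤ) = (-1) ^ (n * m) := by
    have h1 : Equiv.Perm.sign (finRotate (n + m)) = (-1 : ℤˣ) ^ N := by
      rw [sign_finRotate (n + m), show n + m - 1 = N by omega]
    rw [map_pow, h1, Units.val_pow_eq_pow_val, Units.val_pow_eq_pow_val, Units.val_neg, Units.val_one,
      ← pow_mul]
    apply neg_one_pow_congr
    rcases Nat.eq_zero_or_pos n with rfl | hn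
    · simp
    · simp only [Nat.even_mul]
      have : N = n + m - 1 := by omega
      subst this
      rcases Nat.even_or_odd n with he | ho
      · simp [he]
      · have h' : ¬ Even n := Nat.not_even_iff_odd.2 ho
        simp only [h', or_false, false_or]
        rw [show n + m - 1 = (n - 1) + m by omega, Nat.even_add, Nat.even_sub hn]
        simp [h']
  rw [hsign, ← pow_add, ← two_mul, pow_mul, neg_one_sq, one_pow, one_smul]

end GrothLib.MilnorK
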