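import Groth.Agent.Lib.MilnorK.Valuation
import Mathlib.RingTheory.Henselian

/-! Unit symbols, symbols `{1 + 𝔪, …}`, and the kernels of the tame symbol and specialization map. -/

namespace GrothLib.MilnorK

open MilK Function IsLocalRing

universe u v w

variable (A : Type u) [CommRing A] [IsDomain A] [IsDiscreteValuationRing A]
  (L : Type v) [Field L] [Algebra A L] [IsFractionRing A L]

local notation "κ" => IsLocalRing.ResidueField A
local notation "ι" => MilK.unitToFrac A L

/-- The subgroup generated by symbols of units. -/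
def U (n : ℕ) : AddSubgroup (K L n) :=
  AddSubgroup.closure {z | ∃ u : Fin n → Aˣ, z = symbol fun i => ι (u i)}

/-- The subgroup generated by symbols whose first entry is a unit of residue class one. -/
def W : ∀ n, AddSubgroup (K L n)
  | 0 => ⊥
  | n + 1 => AddSubgroup.closure
      {z | ∃ (u₀ : Aˣ) (y : K L n), residue A (u₀ : A) = 1 ∧ z = lmul (ι u₀) y}

variable {A L}

theorem symbol_mem_U {n : ℕ} (u : Fin n → Aˣ) : (symbol fun i => ι (u i)) ∈ U A L n :=
  AddSubgroup.subset_closure ⟨u, rfl⟩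

theorem cons_unit {n : ℕ} (u₀ : Aˣ) (u : Fin n → Aˣ) :
    (fun i => ι ((Fin.cons u₀ u : Fin (n + 1) → Aˣ) i)) = Fin.cons (ι u₀) fun i => ι (u i) :=
  funext fun i => Fin.cases (by simp) (fun j => by simp) i

theorem lmul_mem_U {n : ℕ} (u : Aˣ) {z : K L n} (hz : z ∈ U A L n) : lmul (ι u) z ∈ U A L (n + 1) := by
  induction hz using AddSubgroup.closure_induction with
  | mem z hz =>
    obtain ⟨v, rfl⟩ := hz
    rw [lmul_symbol, ← cons_unit]
    exact symbol_mem_U _
  | zero => rw [map_zero]; exact zero_mem _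
  | add a b _ _ ha hb => rw [map_add]; exact add_mem ha hb
  | neg a _ ha => rw [map_neg]; exact neg_mem ha

theorem mem_W_succ {n : ℕ} {u₀ : Aˣ} (h : residue A (u₀ : A) = 1) (y : K L n) :
    lmul (ι u₀) y ∈ W A L (n + 1) :=
  AddSubgroup.subset_closure ⟨u₀, y, h, rfl⟩

theorem lmul_mem_W : ∀ {n : ℕ} (a : Lˣ) {z : K L n}, z ∈ W A L n → lmul a z ∈ W A L (n + 1)
  | 0, a, z, hz => by
    rw [W, AddSubgroup.mem_bot] at hz
    rw [hz, map_zero]
    exact zero_mem _
  | n + 1, a, z, hz => by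
    rw [W] at hz
    induction hz using AddSubgroup.closure_induction with
    | mem z hz =>
      obtain ⟨u₀, y, h, rfl⟩ := hz
      rw [lmul_lmul_comm]
      exact neg_mem (mem_W_succ h _)
    | zero => rw [map_zero]; exact zero_mem _
    | add x y _ _ hx hy => rw [map_add]; exact add_mem hx hy
    | neg x _ hx => rw [map_neg]; exact neg_mem hx

theorem W_succ_eq (n : ℕ) : W A L (n + 1) = AddSubgroup.closure {z : K L (n + 1) |
    ∃ (u₀ : Aˣ) (w : Fin n → Lˣ), residue A (u₀ : A) = 1 ∧ z = symbol (Fin.cons (ι u₀) w)} := by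
  refine le_antisymm ((AddSubgroup.closure_le _).2 ?_) ((AddSubgroup.closure_le _).2 ?_)
  · rintro _ ⟨u₀, y, h, rfl⟩
    rw [SetLike.mem_coe]
    induction y using induction_symbol with
    | zero => rw [map_zero]; exact zero_mem _
    | add a b ha hb => rw [map_add]; exact add_mem ha hb
    | neg a ha => rw [map_neg]; exact neg_mem ha
    | sym x => exact AddSubgroup.subset_closure ⟨u₀, x, h, lmul_symbol _ _⟩
  · rintro _ ⟨u₀, w, h, rfl⟩
    rw [← lmul_symbol]
    exact mem_W_succ h _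

variable (ϖ : A) (hϖ : Irreducible ϖ)

local notation "π" => MilK.unitFrac A L ϖ (Irreducible.ne_zero hϖ)

theorem neg_one_eq : (-1 : Lˣ) = ι (-1) := by rw [unitToFrac_neg, map_one]

include hϖ in
theorem exists_add_lmul : ∀ {n : ℕ} (z : K L (n + 1)),
    ∃ a ∈ U A L (n + 1), ∃ b ∈ U A L n, z = a + lmul π b := by
  intro n z
  induction z using induction_symbol with
  | zero => exact ⟨0, zero_mem _, 0, zero_mem _, by simp⟩
  | add x y hx hy =>
    obtain ⟨a, ha, b, hb, rfl⟩ := hx
    obtain ⟨c, hc, d, hd, rfl⟩ := hy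
    exact ⟨a + c, add_mem ha hc, b + d, add_mem hb hd, by rw [map_add]; abel⟩
  | neg x hx =>
    obtain ⟨a, ha, b, hb, rfl⟩ := hx
    exact ⟨-a, neg_mem ha, -b, neg_mem hb, by rw [map_neg]; abel⟩
  | sym x =>
    rw [← Fin.cons_self_tail x, ← lmul_symbol, decomp A L ϖ hϖ (x 0), lmul_mul, lmul_zpow]
    generalize expo A L ϖ hϖ (x 0) = i
    generalize uPart A L ϖ hϖ (x 0) = u
    induction n generalizing i u with
    | zero =>
      have hm : (symbol (Fin.tail x) : K L 0) ∈ U A L 0 := by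
        rw [show Fin.tail x = fun k => ι ((Fin.elim0 : Fin 0 → Aˣ) k) from funext fun k => k.elim0]
        exact symbol_mem_U _
      exact ⟨_, lmul_mem_U u hm, _, zsmul_mem hm i, by rw [map_zsmul]; exact add_comm _ _⟩
    | succ m ih =>
      have hx : ∃ a ∈ U A L (m + 1), ∃ b ∈ U A L m, (symbol (Fin.tail x) : K L (m + 1)) = a + lmul π b := by
        obtain ⟨a, ha, b, hb, e⟩ := ih (Fin.tail x) (expo A L ϖ hϖ (x 1)) (uPart A L ϖ hϖ (x 1))
        refine ⟨a, ha, b, hb, ?_⟩
        rw [← e, ← lmul_zpow, ← lmul_mul, ← decomp, lmul_symbol]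
        exact congrArg symbol (Fin.cons_self_tail (Fin.tail x)).symm
      obtain ⟨a, ha, b, hb, e⟩ := hx
      refine ⟨lmul (ι u) a, lmul_mem_U u ha, i • a + i • lmul (ι (-1)) b - lmul (ι u) b,
        sub_mem (add_mem (zsmul_mem ha i) (zsmul_mem (lmul_mem_U _ hb) i)) (lmul_mem_U u hb), ?_⟩
      rw [e, map_add, map_add, lmul_lmul_self, lmul_lmul_comm (ι u) π, map_sub, map_add, map_zsmul,
        map_zsmul, ← neg_one_eq]
      module

theorem spec_U {n : ℕ} (u : Fin n → Aˣ) :
    spec A L ϖ hϖ n (symbol fun i => ι (u i)) = symbol fun i => unitResidue A (u i) := by simp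

theorem tame_U {n : ℕ} {z : K L (n + 1)} (hz : z ∈ U A L (n + 1)) : tame A L ϖ hϖ n z = 0 := by
  induction hz using AddSubgroup.closure_induction with
  | mem z hz =>
    obtain ⟨v, rfl⟩ := hz
    exact tame_units A L ϖ hϖ n v
  | zero => exact map_zero _
  | add a b _ _ ha hb => rw [map_add, ha, hb, add_zero]
  | neg a _ ha => rw [map_neg, ha, neg_zero]

theorem tame_lmul_U {n : ℕ} (a : Lˣ) {z : K L n} (hz : z ∈ U A L n) :
    tame A L ϖ hϖ n (lmul a z) = valHom A L ϖ hϖ (.ofMul a) • spec A L ϖ hϖ n z := by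
  induction hz using AddSubgroup.closure_induction with
  | mem z hz =>
    obtain ⟨v, rfl⟩ := hz
    rw [tame_lmul_units, spec_U]
  | zero => simp
  | add a b _ _ ha hb => rw [map_add, map_add, ha, hb, map_add, smul_add]
  | neg a _ ha => rw [map_neg, map_neg, ha, map_neg, smul_neg]

theorem IsTameSymbol.lmul_unit_eq_zero {n : ℕ} {d : K L (n + 1) →+ K κ n} (hd : IsTameSymbol A L n d)
    (u₀ : Aˣ) (u : Fin n → Aˣ) : d (lmul (ι u₀) (symbol fun i => ι (u i))) = 0 := by
  obtain ⟨p, hp⟩ := IsDiscreteValuationRing.exists_irreducible A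
  have hp' : Irreducible (p * (u₀ : A)) :=
    (Associated.irreducible_iff ⟨u₀, rfl⟩).1 hp
  have e : ι u₀ = (unitFrac A L p hp.ne_zero)⁻¹ * unitFrac A L (p * u₀) hp'.ne_zero := by
    rw [eq_inv_mul_iff_mul_eq]
    exact Units.ext (by simp [coe_unitToFrac])
  rw [e, lmul_mul, lmul_inv, map_add, map_neg, lmul_symbol, lmul_symbol, hd p hp, hd _ hp', neg_add_cancel]

theorem IsTameSymbol.eq_tame {n : ℕ} {d : K L (n + 1) →+ K κ n} (hd : IsTameSymbol A L n d) :
    d = tame A L ϖ hϖ n := by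
  have h1 : ∀ z ∈ U A L (n + 1), d z = 0 := fun z hz => by
    induction hz using AddSubgroup.closure_induction with
    | mem z hz =>
      obtain ⟨v, rfl⟩ := hz
      have e : (fun i => ι (v i)) = Fin.cons (ι (v 0)) fun i => ι (v i.succ) :=
        (Fin.cons_self_tail _).symm
      rw [e, ← lmul_symbol]
      exact IsTameSymbol.lmul_unit_eq_zero hd _ _
    | zero => exact map_zero _
    | add a b _ _ ha hb => rw [map_add, ha, hb, add_zero]
    | neg a _ ha => rw [map_neg, ha, neg_zero]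
  have h2 : ∀ z ∈ U A L n, d (lmul π z) = spec A L ϖ hϖ n z := fun z hz => by
    induction hz using AddSubgroup.closure_induction with
    | mem z hz =>
      obtain ⟨v, rfl⟩ := hz
      rw [lmul_symbol, hd ϖ hϖ v, spec_U]
    | zero => simp
    | add a b _ _ ha hb => rw [map_add, map_add, ha, hb, map_add]
    | neg a _ ha => rw [map_neg, map_neg, ha, map_neg]
  ext z
  obtain ⟨a, ha, b, hb, rfl⟩ := exists_add_lmul ϖ hϖ z
  rw [map_add, map_add, h1 a ha, h2 b hb, tame_U ϖ hϖ ha, tame_lmul_U ϖ hϖ π hb, valHom_pi, one_smul]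

include hϖ in
theorem lmul_pi_W_le {n : ℕ} {u₀ : Aˣ} (h : residue A (u₀ : A) = 1) {b : K L n} (hb : b ∈ U A L n) :
    lmul π (lmul (ι u₀) b) ∈ U A L (n + 2) := by
  have key : ∀ (c w : Aˣ), (w : A) = 1 + ϖ * c → lmul π (lmul (ι w) b) ∈ U A L (n + 2) := by
    intro c w hw
    have e : ((π * ι (-c) : Lˣ) : L) + ι w = 1 := by
      rw [Units.val_mul, coe_unitFrac, coe_unitToFrac, coe_unitToFrac, hw, Units.val_neg, map_add,
        map_neg, map_one, map_mul]
      ring
    have := lmul_lmul_steinberg _ _ e b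
    rw [lmul_mul, add_eq_zero_iff_eq_neg] at this
    rw [this]
    exact neg_mem (lmul_mem_U _ (lmul_mem_U _ hb))
  have hm : (u₀ : A) - 1 ∈ maximalIdeal A := by
    rw [← residue_eq_zero_iff, map_sub, h, map_one, sub_self]
  rw [hϖ.maximalIdeal_eq, Ideal.mem_span_singleton] at hm
  obtain ⟨c, hc⟩ := hm
  by_cases hu : IsUnit c
  · exact key hu.unit u₀ (by rw [IsUnit.unit_spec, ← hc]; ring)
  · obtain ⟨w₁, hw₁⟩ : IsUnit (1 + ϖ) := by
      have := IsLocalRing.isUnit_one_sub_self_of_mem_nonunits (-ϖ)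
        ((mem_maximalIdeal _).1 (neg_mem ((mem_maximalIdeal _).2 hϖ.not_isUnit)))
      rwa [sub_neg_eq_add] at this
    obtain ⟨w₂, hw₂⟩ : ∃ c₂ : Aˣ, (c₂ : A) = (c - 1) * (w₁⁻¹ : Aˣ) := by
      have hc1 : IsUnit (1 - c) := IsLocalRing.isUnit_one_sub_self_of_mem_nonunits _ hu
      have : IsUnit ((c - 1) * (w₁⁻¹ : Aˣ)) := by
        rw [← neg_sub 1 c]; exact hc1.neg.mul (Units.isUnit _)
      exact ⟨this.unit, this.unit_spec⟩
    have hww : (u₀ : A) = (w₁ : A) * (1 + ϖ * w₂) := by
      have : (w₁ : A) * ((w₁⁻¹ : Aˣ) : A) = 1 := Units.mul_inv w₁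
      rw [hw₂, mul_add, mul_one, hw₁]
      rw [hw₁] at this
      linear_combination hc - (ϖ * (c - 1)) * this
    obtain ⟨w₃, hw₃⟩ : ∃ v : Aˣ, (v : A) = 1 + ϖ * w₂ :=
      ⟨w₁⁻¹ * u₀, by rw [Units.val_mul, hww, Units.inv_mul_cancel_left]⟩
    rw [show u₀ = w₁ * w₃ from Units.ext (by rw [Units.val_mul, hw₃, hww]), map_mul, lmul_mul, map_add]
    exact add_mem (key 1 w₁ (by rw [hw₁, Units.val_one, mul_one])) (key w₂ w₃ hw₃)

theorem W_le_U : ∀ (n : ℕ), W A L n ≤ U A L n := by
  intro n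
  cases n with
  | zero => exact bot_le
  | succ n =>
    refine (AddSubgroup.closure_le _).2 ?_
    rintro _ ⟨u₀, y, h, rfl⟩
    rw [SetLike.mem_coe]
    cases n with
    | zero =>
      induction y using induction_symbol with
      | zero => rw [map_zero]; exact zero_mem _
      | add a b ha hb => rw [map_add]; exact add_mem ha hb
      | neg a ha => rw [map_neg]; exact neg_mem ha
      | sym x =>
        rw [show x = fun k => ι ((Fin.elim0 : Fin 0 → Aˣ) k) from funext fun k => k.elim0]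
        exact lmul_mem_U _ (symbol_mem_U _)
    | succ n =>
      obtain ⟨p, hp⟩ := IsDiscreteValuationRing.exists_irreducible A
      obtain ⟨a, ha, b, hb, rfl⟩ := exists_add_lmul p hp y
      rw [map_add, lmul_lmul_comm]
      exact add_mem (lmul_mem_U _ ha) (neg_mem (lmul_pi_W_le p hp h hb))

theorem symbol_units_sub_mem_W : ∀ {n : ℕ} (u u' : Fin n → Aˣ),
    (∀ i, unitResidue A (u i) = unitResidue A (u' i)) →
      (symbol fun i => ι (u i)) - (symbol fun i => ι (u' i)) ∈ W A L n := by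
  intro n
  induction n with
  | zero =>
    intro u u' _
    rw [show u = u' from funext fun i => i.elim0, sub_self]
    exact zero_mem _
  | succ n ih =>
    intro u u' h
    rw [← Fin.cons_self_tail u, ← Fin.cons_self_tail u', cons_unit, cons_unit, ← lmul_symbol,
      ← lmul_symbol, show u 0 = u' 0 * ((u' 0)⁻¹ * u 0) by rw [mul_inv_cancel_left], map_mul, lmul_mul,
      add_sub_right_comm, ← map_sub]
    refine add_mem (lmul_mem_W _ (ih _ _ fun i => h i.succ)) (mem_W_succ ?_ _)
    rw [← unitResidue_eq_one_iff, map_mul, map_inv, h 0, inv_mul_cancel]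

variable (A L) in
/-- A chosen lift of a unit of the residue field. -/
noncomputable def liftUnit (c : κˣ) : Aˣ := surjInv (unitResidue_surjective A) c

theorem unitResidue_liftUnit (c : κˣ) : unitResidue A (liftUnit A c) = c := surjInv_eq _ c

theorem lifts_sub_mem_W {n : ℕ} (u : Fin n → Aˣ) :
    (symbol fun i => ι (liftUnit A (unitResidue A (u i)))) - (symbol fun i => ι (u i)) ∈ W A L n :=
  symbol_units_sub_mem_W _ _ fun _ => unitResidue_liftUnit _

theorem liftFun_update_add {n : ℕ} [DecidableEq (Fin n)] (y : Fin n → Additive κˣ) (i : Fin n)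
    (a b : Additive κˣ) :
    QuotientAddGroup.mk' (W A L n) (symbol fun k => ι (liftUnit A (update y i (a + b) k).toMul)) =
      QuotientAddGroup.mk' (W A L n) (symbol fun k => ι (liftUnit A (update y i a k).toMul)) +
      QuotientAddGroup.mk' (W A L n) (symbol fun k => ι (liftUnit A (update y i b k).toMul)) := by
  obtain rfl : ‹DecidableEq (Fin n)› = instDecidableEqFin n := Subsingleton.elim _ _
  set l := fun k => ι (liftUnit A (y k).toMul) with hl
  have e : ∀ c : Additive κˣ, (fun k => ι (liftUnit A (update y i c k).toMul)) =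
      update l i (ι (liftUnit A c.toMul)) := fun c => funext fun k => by
    rw [update_apply, update_apply]; split_ifs <;> rfl
  rw [e a, e b, ← map_add, ← symbol_update_mul, ← map_mul, QuotientAddGroup.mk'_apply,
    QuotientAddGroup.mk'_apply, QuotientAddGroup.eq_iff_sub_mem]
  have e2 : update l i (ι (liftUnit A a.toMul * liftUnit A b.toMul)) =
      fun k => ι (update (fun k => liftUnit A (y k).toMul) i (liftUnit A a.toMul * liftUnit A b.toMul) k) :=
    funext fun k => by rw [update_apply, update_apply]; split_ifs <;> rfl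
  rw [e2]
  refine symbol_units_sub_mem_W _ _ fun k => ?_
  rw [update_apply, update_apply]
  split_ifs
  · rw [map_mul, unitResidue_liftUnit, unitResidue_liftUnit, unitResidue_liftUnit, toMul_add]
  · rw [unitResidue_liftUnit]

variable (A L) in
/-- Lifting of residues, as a multilinear map. -/
noncomputable def liftML (n : ℕ) :
    MultilinearMap ℤ (fun _ : Fin n => Additive κˣ) (K L n ⧸ W A L n) where
  toFun y := QuotientAddGroup.mk' (W A L n) (symbol fun k => ι (liftUnit A (y k).toMul))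
  map_update_add' := liftFun_update_add
  map_update_smul' y i c a :=
    (AddMonoidHom.mk' (fun a => QuotientAddGroup.mk' (W A L n)
      (symbol fun k => ι (liftUnit A (update y i a k).toMul))) (liftFun_update_add y i)).map_zsmul c a

theorem liftML_steinberg {n : ℕ} (c : Fin n → κˣ) (hc : IsSteinberg κ c) :
    liftML A L n (fun i => .ofMul (c i)) = 0 := by
  obtain ⟨i, j, hij, h⟩ := hc
  show QuotientAddGroup.mk' (W A L n) (symbol fun k => ι (liftUnit A (c k))) = 0
  set a := liftUnit A (c i) with ha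
  have hr : residue A (1 - (a : A)) = (c j : κ) := by
    rw [map_sub, map_one, ← coe_unitResidue, ha, unitResidue_liftUnit, ← h, add_sub_cancel_left]
  have hu : IsUnit (1 - (a : A)) := (residue_ne_zero_iff_isUnit _).1 (hr ▸ (c j).ne_zero)
  set u := update (fun k => liftUnit A (c k)) j hu.unit with hu'
  have hz : (symbol fun k => ι (u k) : K L n) = 0 := by
    refine symbol_steinberg _ hij.ne ?_
    rw [hu', update_self, update_of_ne hij.ne, coe_unitToFrac, coe_unitToFrac, IsUnit.unit_spec,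
      ← map_add, ← ha, add_sub_cancel, map_one]
  rw [QuotientAddGroup.mk'_apply, QuotientAddGroup.eq_zero_iff,
    ← sub_zero (symbol fun k => ι (liftUnit A (c k)) : K L n), ← hz]
  refine symbol_units_sub_mem_W _ _ fun k => ?_
  rw [hu', update_apply]
  split_ifs with hk
  · subst hk
    refine Units.ext ?_
    rw [unitResidue_liftUnit, coe_unitResidue, IsUnit.unit_spec, hr]
  · rfl

variable (A L) in
/-- The inverse of specialization on unit symbols modulo `W`. -/
noncomputable def liftRes (n : ℕ) : K κ n →+ K L n ⧸ W A L n :=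
  MilK.lift (liftML A L n) liftML_steinberg

theorem liftRes_symbol {n : ℕ} (u : Fin n → Aˣ) :
    liftRes A L n (symbol fun i => unitResidue A (u i)) =
      QuotientAddGroup.mk' (W A L n) (symbol fun i => ι (u i)) := by
  rw [liftRes, lift_symbol]
  show QuotientAddGroup.mk' (W A L n) (symbol fun i => ι (liftUnit A (unitResidue A (u i)))) = _
  rw [QuotientAddGroup.mk'_apply, QuotientAddGroup.mk'_apply, QuotientAddGroup.eq_iff_sub_mem]
  exact lifts_sub_mem_W u

include hϖ in
theorem mem_W_of_spec_eq_zero {n : ℕ} {a : K L n} (ha : a ∈ U A L n) (h : spec A L ϖ hϖ n a = 0) :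
    a ∈ W A L n := by
  rw [← QuotientAddGroup.eq_zero_iff, ← QuotientAddGroup.mk'_apply,
    ← (liftRes A L n).map_zero, ← h]
  clear h
  induction ha using AddSubgroup.closure_induction with
  | mem z hz =>
    obtain ⟨v, rfl⟩ := hz
    rw [spec_U, liftRes_symbol]
  | zero => simp
  | add a b _ _ ha hb => rw [map_add, map_add, map_add, ha, hb]
  | neg a _ ha => rw [map_neg, map_neg, map_neg, ha]

theorem spec_W : ∀ {n : ℕ} {z : K L n}, z ∈ W A L n → spec A L ϖ hϖ n z = 0
  | 0, z, hz => by rw [W, AddSubgroup.mem_bot] at hz; rw [hz, map_zero]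
  | n + 1, z, hz => by
    rw [W] at hz
    induction hz using AddSubgroup.closure_induction with
    | mem z hz =>
      obtain ⟨u₀, y, h, rfl⟩ := hz
      rw [spec_lmul, resPart_unit, (unitResidue_eq_one_iff A u₀).2 h, lmul_one]
    | zero => exact map_zero _
    | add a b _ _ ha hb => rw [map_add, ha, hb, add_zero]
    | neg a _ ha => rw [map_neg, ha, neg_zero]

include hϖ in
theorem exists_U_spec_eq {n : ℕ} (p : K κ n) : ∃ a ∈ U A L n, spec A L ϖ hϖ n a = p := by
  induction p using induction_symbol with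
  | zero => exact ⟨0, zero_mem _, map_zero _⟩
  | add x y hx hy =>
    obtain ⟨a, ha, rfl⟩ := hx
    obtain ⟨b, hb, rfl⟩ := hy
    exact ⟨a + b, add_mem ha hb, map_add _ _ _⟩
  | neg x hx =>
    obtain ⟨a, ha, rfl⟩ := hx
    exact ⟨-a, neg_mem ha, map_neg _ _⟩
  | sym c =>
    refine ⟨_, symbol_mem_U (fun i => liftUnit A (c i)), ?_⟩
    simp [unitResidue_liftUnit]

theorem spec_add_lmul {n : ℕ} (a : K L (n + 1)) (b : K L n) :
    spec A L ϖ hϖ (n + 1) (a + lmul π b) = spec A L ϖ hϖ (n + 1) a := by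
  rw [map_add, spec_lmul, resPart_pi, lmul_one, add_zero]

theorem tame_add_lmul {n : ℕ} {a : K L (n + 1)} (ha : a ∈ U A L (n + 1)) {b : K L n}
    (hb : b ∈ U A L n) : tame A L ϖ hϖ n (a + lmul π b) = spec A L ϖ hϖ n b := by
  rw [map_add, tame_U ϖ hϖ ha, zero_add, tame_lmul_U ϖ hϖ π hb, valHom_pi, one_smul]

theorem tame_surjective (n : ℕ) :
    Surjective fun x : K L (n + 1) => (spec A L ϖ hϖ (n + 1) x, tame A L ϖ hϖ n x) := fun ⟨p, q⟩ => by
  obtain ⟨a, ha, rfl⟩ := exists_U_spec_eq (L := L) ϖ hϖ p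
  obtain ⟨b, hb, rfl⟩ := exists_U_spec_eq (L := L) ϖ hϖ q
  exact ⟨a + lmul π b, Prod.ext (spec_add_lmul ϖ hϖ a b) (tame_add_lmul ϖ hϖ ha hb)⟩

theorem spec_tame_eq_zero_iff {n : ℕ} (x : K L (n + 1)) :
    (spec A L ϖ hϖ (n + 1) x = 0 ∧ tame A L ϖ hϖ n x = 0) ↔ x ∈ W A L (n + 1) := by
  refine ⟨?_, fun h => ⟨spec_W ϖ hϖ h, tame_U ϖ hϖ (W_le_U _ h)⟩⟩
  obtain ⟨a, ha, b, hb, rfl⟩ := exists_add_lmul ϖ hϖ x
  rw [spec_add_lmul, tame_add_lmul ϖ hϖ ha hb]
  rintro ⟨hs, hd⟩
  exact add_mem (mem_W_of_spec_eq_zero ϖ hϖ ha hs) (lmul_mem_W _ (mem_W_of_spec_eq_zero ϖ hϖ hb hd))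

theorem tame_ker (n : ℕ) : (tame A L ϖ hϖ n).ker = U A L (n + 1) := by
  ext x
  refine ⟨fun h => ?_, fun h => tame_U ϖ hϖ h⟩
  rw [AddMonoidHom.mem_ker] at h
  obtain ⟨a, ha, b, hb, rfl⟩ := exists_add_lmul ϖ hϖ x
  rw [tame_add_lmul ϖ hϖ ha hb] at h
  exact add_mem ha (W_le_U _ (lmul_mem_W _ (mem_W_of_spec_eq_zero ϖ hϖ hb h)))

theorem exists_pow_eq [IsAdicComplete (maximalIdeal A) A] {m : ℕ} (hm : 0 < m)
    (hmκ : IsUnit (m : κ)) (u : Aˣ) (hu : residue A (u : A) = 1) :
    ∃ w : Aˣ, residue A (w : A) = 1 ∧ w ^ m = u := by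
  open Polynomial in
  obtain ⟨a, ha, ha1⟩ := HenselianRing.is_henselian (I := maximalIdeal A)
    (X ^ m - C (u : A)) (monic_X_pow_sub_C _ hm.ne') 1
    (by rw [eval_sub, eval_pow, eval_X, eval_C, one_pow, ← residue_eq_zero_iff, map_sub, map_one, hu,
      sub_self])
    (by
      rw [derivative_sub, derivative_C, sub_zero, derivative_X_pow, eval_mul, eval_C, eval_pow, eval_X,
        one_pow, mul_one, map_natCast]
      exact hmκ)
  rw [Polynomial.IsRoot, Polynomial.eval_sub, Polynomial.eval_pow, Polynomial.eval_X, Polynomial.eval_C,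
    sub_eq_zero] at ha
  rw [← residue_eq_zero_iff, map_sub, map_one, sub_eq_zero] at ha1
  have hu' : IsUnit a := (residue_ne_zero_iff_isUnit a).1 (ha1 ▸ one_ne_zero)
  exact ⟨hu'.unit, by rw [IsUnit.unit_spec]; exact ha1, Units.ext (by simpa using ha)⟩

theorem W_divisible [IsAdicComplete (maximalIdeal A) A] {n m : ℕ} (hm : 0 < m)
    (hmκ : IsUnit (m : κ)) {x : K L (n + 1)} (hx : x ∈ W A L (n + 1)) : ∃ y, x = m • y := by
  rw [W] at hx
  induction hx using AddSubgroup.closure_induction with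
  | mem z hz =>
    obtain ⟨u₀, y, h, rfl⟩ := hz
    obtain ⟨w, -, rfl⟩ := exists_pow_eq hm hmκ u₀ h
    refine ⟨lmul (ι w) y, ?_⟩
    rw [map_pow, ← zpow_natCast, lmul_zpow, natCast_zsmul]
  | zero => exact ⟨0, (nsmul_zero _).symm⟩
  | add a b _ _ ha hb =>
    obtain ⟨p, rfl⟩ := ha
    obtain ⟨q, rfl⟩ := hb
    exact ⟨p + q, (nsmul_add _ _ _).symm⟩
  | neg a _ ha =>
    obtain ⟨p, rfl⟩ := ha
    exact ⟨-p, (neg_nsmul _ _).symm⟩

end GrothLib.MilnorK
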