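import Groth.Agent.Lib.MilnorK.Basic
import Mathlib.RingTheory.LocalRing.ResidueField.Basic
import Mathlib.LinearAlgebra.Multilinear.Curry

/-! Unit part, specialization map and tame symbol of a discrete valuation ring. -/

namespace GrothLib.MilnorK

open MilK Function IsLocalRing

universe u v w

section Fields

variable {K' : Type u} [Field K']

/-- The identities satisfied by `d ↦ {d} · p`. -/
structure Good {n : ℕ} (f : Additive K'ˣ →+ K K' n) : Prop where
  steinberg : ∀ c d : K'ˣ, (c : K') + d = 1 → lmul c (f (.ofMul d)) = 0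
  neg : ∀ c : K'ˣ, lmul c (f (.ofMul (-c))) = 0
  comm : ∀ c d : K'ˣ, lmul c (f (.ofMul d)) = -lmul d (f (.ofMul c))

theorem good_zero {n : ℕ} : Good (0 : Additive K'ˣ →+ K K' n) :=
  ⟨fun _ _ _ => map_zero _, fun _ => map_zero _, fun _ _ => by simp⟩

theorem good_lmulHom {n : ℕ} (p : K K' n) : Good ((lmulHom (F := K') (n := n)).flip p) :=
  ⟨fun c d h => lmul_lmul_steinberg c d h p, fun c => lmul_lmul_neg c p,
    fun c d => lmul_lmul_comm c d p⟩

end Fields

variable (A : Type u) [CommRing A] [IsDomain A] [IsDiscreteValuationRing A]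
  (L : Type v) [Field L] [Algebra A L] [IsFractionRing A L]

local notation "κ" => IsLocalRing.ResidueField A

theorem coe_unitToFrac (u : Aˣ) : (unitToFrac A L u : L) = algebraMap A L u := rfl

theorem coe_unitResidue (u : Aˣ) : (unitResidue A u : κ) = residue A u := rfl

theorem unitResidue_surjective : Surjective (unitResidue A) := fun c => by
  obtain ⟨a, ha⟩ := residue_surjective (c : κ)
  have hu : IsUnit a := (residue_ne_zero_iff_isUnit a).1 (ha ▸ c.ne_zero)
  exact ⟨hu.unit, Units.ext ha⟩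

theorem unitToFrac_neg (u : Aˣ) : unitToFrac A L (-u) = -unitToFrac A L u :=
  Units.ext (by simp [coe_unitToFrac])

theorem unitResidue_neg (u : Aˣ) : unitResidue A (-u) = -unitResidue A u :=
  Units.ext (by simp [coe_unitResidue])

theorem unitResidue_eq_one_iff (u : Aˣ) : unitResidue A u = 1 ↔ residue A (u : A) = 1 := by
  rw [Units.ext_iff, coe_unitResidue, Units.val_one]

variable (ϖ : A) (hϖ : Irreducible ϖ)

local notation "π" => MilK.unitFrac A L ϖ (Irreducible.ne_zero hϖ)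
local notation "ι" => MilK.unitToFrac A L

theorem exists_decomp (a : Lˣ) : ∃ (i : ℤ) (u : Aˣ), a = π ^ i * ι u := by
  obtain ⟨x, y, hy, e⟩ := IsFractionRing.div_surjective A (a : L)
  have hy0 : y ≠ 0 := nonZeroDivisors.ne_zero hy
  have hx0 : x ≠ 0 := by
    rintro rfl
    rw [map_zero, zero_div] at e
    exact a.ne_zero e.symm
  obtain ⟨k, v, rfl⟩ := IsDiscreteValuationRing.eq_unit_mul_pow_irreducible hx0 hϖ
  obtain ⟨l, w, rfl⟩ := IsDiscreteValuationRing.eq_unit_mul_pow_irreducible hy0 hϖ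
  refine ⟨(k : ℤ) - l, v * w⁻¹, Units.ext ?_⟩
  rw [← e, map_mul, map_mul, map_pow, map_pow, map_mul, map_inv, Units.val_mul, Units.val_mul,
    Units.val_zpow_eq_zpow_val, coe_unitFrac, Units.val_inv_eq_inv_val, coe_unitToFrac, coe_unitToFrac]
  have hp : algebraMap A L ϖ ≠ 0 := (π).ne_zero
  rw [zpow_sub₀ hp, zpow_natCast, zpow_natCast]
  field_simp

theorem pow_mul_ne (k : ℕ) (u v : Aˣ) (hk : k ≠ 0) : π ^ (k : ℤ) * ι u ≠ ι v := fun h => by
  have h' := congrArg Units.val h
  rw [Units.val_mul, zpow_natCast, Units.val_pow_eq_pow_val, coe_unitFrac, coe_unitToFrac,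
    coe_unitToFrac, ← map_pow, ← map_mul] at h'
  have h'' : (u : A) * ϖ ^ k = v * ϖ ^ 0 := by
    rw [pow_zero, mul_one, mul_comm]; exact IsFractionRing.injective A L h'
  exact hk (IsDiscreteValuationRing.unit_mul_pow_congr_pow hϖ hϖ u v k 0 h'')

theorem decomp_unique {i j : ℤ} {u v : Aˣ} (h : π ^ i * ι u = π ^ j * ι v) : i = j ∧ u = v := by
  have hij : i = j := by
    rcases lt_trichotomy i j with hlt | rfl | hlt
    · obtain ⟨k, hk⟩ := Int.eq_ofNat_of_zero_le (sub_nonneg.2 hlt.le)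
      refine absurd ?_ (pow_mul_ne A L ϖ hϖ k v u (by omega))
      rw [← hk, zpow_sub, mul_right_comm, ← h, mul_inv_cancel_comm]
    · rfl
    · obtain ⟨k, hk⟩ := Int.eq_ofNat_of_zero_le (sub_nonneg.2 hlt.le)
      refine absurd ?_ (pow_mul_ne A L ϖ hϖ k u v (by omega))
      rw [← hk, zpow_sub, mul_right_comm, h, mul_inv_cancel_comm]
  subst hij
  refine ⟨rfl, Units.ext (IsFractionRing.injective A L ?_)⟩
  exact congrArg Units.val (mul_left_cancel h)

/-- The exponent of the uniformizer in a unit of the fraction field. -/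
noncomputable def expo (a : Lˣ) : ℤ := (exists_decomp A L ϖ hϖ a).choose

/-- The unit part of a unit of the fraction field. -/
noncomputable def uPart (a : Lˣ) : Aˣ := (exists_decomp A L ϖ hϖ a).choose_spec.choose

theorem decomp (a : Lˣ) : a = π ^ expo A L ϖ hϖ a * ι (uPart A L ϖ hϖ a) :=
  (exists_decomp A L ϖ hϖ a).choose_spec.choose_spec

theorem expo_uPart_eq {a : Lˣ} {i : ℤ} {u : Aˣ} (h : a = π ^ i * ι u) :
    expo A L ϖ hϖ a = i ∧ uPart A L ϖ hϖ a = u :=
  decomp_unique A L ϖ hϖ ((decomp A L ϖ hϖ a).symm.trans h)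

theorem expo_uPart_mul (a b : Lˣ) : expo A L ϖ hϖ (a * b) = expo A L ϖ hϖ a + expo A L ϖ hϖ b ∧
    uPart A L ϖ hϖ (a * b) = uPart A L ϖ hϖ a * uPart A L ϖ hϖ b := by
  refine expo_uPart_eq A L ϖ hϖ ?_
  conv_lhs => rw [decomp A L ϖ hϖ a, decomp A L ϖ hϖ b]
  rw [mul_mul_mul_comm, ← zpow_add, ← map_mul]

/-- The valuation as a homomorphism. -/
noncomputable def valHom : Additive Lˣ →+ ℤ :=
  AddMonoidHom.mk' (fun a => expo A L ϖ hϖ a.toMul) fun a b => (expo_uPart_mul A L ϖ hϖ a.toMul b.toMul).1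

/-- The residue of the unit part, as a homomorphism. -/
noncomputable def resPart : Lˣ →* κˣ :=
  MonoidHom.mk' (fun a => unitResidue A (uPart A L ϖ hϖ a))
    fun a b => by rw [(expo_uPart_mul A L ϖ hϖ a b).2, map_mul]

theorem valHom_eq {a : Lˣ} {i : ℤ} {u : Aˣ} (h : a = π ^ i * ι u) :
    valHom A L ϖ hϖ (.ofMul a) = i := (expo_uPart_eq A L ϖ hϖ h).1

theorem resPart_eq {a : Lˣ} {i : ℤ} {u : Aˣ} (h : a = π ^ i * ι u) :
    resPart A L ϖ hϖ a = unitResidue A u :=
  congrArg (unitResidue A) (expo_uPart_eq A L ϖ hϖ h).2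

@[simp]
theorem valHom_unit (u : Aˣ) : valHom A L ϖ hϖ (.ofMul (ι u)) = 0 :=
  valHom_eq A L ϖ hϖ (by rw [zpow_zero, one_mul])

@[simp]
theorem resPart_unit (u : Aˣ) : resPart A L ϖ hϖ (ι u) = unitResidue A u :=
  resPart_eq A L ϖ hϖ (i := 0) (by rw [zpow_zero, one_mul])

@[simp]
theorem valHom_pi : valHom A L ϖ hϖ (.ofMul π) = 1 :=
  valHom_eq A L ϖ hϖ (u := 1) (by rw [zpow_one, map_one, mul_one])

@[simp]
theorem resPart_pi : resPart A L ϖ hϖ π = 1 :=
  (resPart_eq A L ϖ hϖ (i := 1) (u := 1) (by rw [zpow_one, map_one, mul_one])).trans (map_one _)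

theorem valHom_irreducible (p : A) (hp : Irreducible p) :
    valHom A L ϖ hϖ (.ofMul (unitFrac A L p hp.ne_zero)) = 1 := by
  obtain ⟨u, hu⟩ := IsDiscreteValuationRing.associated_of_irreducible A hϖ hp
  refine valHom_eq A L ϖ hϖ (u := u) (Units.ext ?_)
  rw [coe_unitFrac, Units.val_mul, zpow_one, coe_unitFrac, coe_unitToFrac, ← map_mul, hu]

/-- What the equation `a + b = 1` says when `a` has positive valuation. -/
theorem steinberg_pos {a b : Lˣ} (h : (a : L) + b = 1) (ha : 0 < valHom A L ϖ hϖ (.ofMul a)) :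
    valHom A L ϖ hϖ (.ofMul b) = 0 ∧ resPart A L ϖ hϖ b = 1 := by
  obtain ⟨k, hk⟩ := Int.eq_ofNat_of_zero_le ha.le
  have ea := decomp A L ϖ hϖ a
  have hk' : expo A L ϖ hϖ a = (k : ℤ) := hk
  rw [hk'] at ea
  have hm : ϖ ^ k * (uPart A L ϖ hϖ a : A) ∈ maximalIdeal A :=
    Ideal.mul_mem_right _ _ (Ideal.pow_mem_of_mem _ hϖ.not_isUnit k (by omega))
  obtain ⟨w, hw⟩ := IsLocalRing.isUnit_one_sub_self_of_mem_nonunits _ hm
  have e : b = π ^ (0 : ℤ) * ι w := by
    apply Units.ext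
    rw [zpow_zero, one_mul, coe_unitToFrac, hw, map_sub, map_one, map_mul, map_pow, eq_sub_iff_add_eq,
      add_comm]
    conv_rhs => rw [← h, ea]
    rw [Units.val_mul, zpow_natCast, Units.val_pow_eq_pow_val, coe_unitFrac, coe_unitToFrac]
  refine ⟨valHom_eq A L ϖ hϖ e, (resPart_eq A L ϖ hϖ e).trans (Units.ext ?_)⟩
  rw [coe_unitResidue, hw, map_sub, map_one, (residue_eq_zero_iff _).2 hm, sub_zero, Units.val_one]

/-- What the equation `a + b = 1` says when `a` has negative valuation. -/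
theorem steinberg_neg {a b : Lˣ} (h : (a : L) + b = 1) (ha : valHom A L ϖ hϖ (.ofMul a) < 0) :
    valHom A L ϖ hϖ (.ofMul b) = valHom A L ϖ hϖ (.ofMul a) ∧
      resPart A L ϖ hϖ b = -resPart A L ϖ hϖ a := by
  have h1 : ((a⁻¹ : Lˣ) : L) + ((-(b * a⁻¹) : Lˣ) : L) = 1 := by
    simp only [Units.val_neg, Units.val_mul, Units.val_inv_eq_inv_val]
    have := a.ne_zero
    field_simp
    linear_combination -h
  obtain ⟨hv, hr⟩ := steinberg_pos A L ϖ hϖ h1 (by rw [ofMul_inv, map_neg]; omega)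
  have hneg : ∀ c : Lˣ, valHom A L ϖ hϖ (.ofMul (-c)) = valHom A L ϖ hϖ (.ofMul c) ∧
      resPart A L ϖ hϖ (-c) = -resPart A L ϖ hϖ c := fun c => by
    have e : -c = π ^ expo A L ϖ hϖ c * ι (-uPart A L ϖ hϖ c) := by
      rw [unitToFrac_neg, mul_neg, ← decomp A L ϖ hϖ c]
    exact ⟨valHom_eq A L ϖ hϖ e, (resPart_eq A L ϖ hϖ e).trans (unitResidue_neg A _)⟩
  rw [(hneg _).1, ofMul_mul, ofMul_inv, map_add, map_neg] at hv
  rw [(hneg _).2, map_mul, map_inv, neg_eq_iff_eq_neg, mul_inv_eq_iff_eq_mul, neg_one_mul] at hr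
  exact ⟨by omega, hr⟩

/-- The residue map on units, additively. -/
noncomputable def resAdd : Additive Lˣ →+ Additive κˣ := MonoidHom.toAdditive (resPart A L ϖ hϖ)

/-- The specialization as a multilinear map. -/
noncomputable def specML (n : ℕ) : MultilinearMap ℤ (fun _ : Fin n => Additive Lˣ) (K κ n) :=
  (symML κ n).compLinearMap fun _ => (resAdd A L ϖ hϖ).toIntLinearMap

theorem specML_apply {n : ℕ} (x : Fin n → Lˣ) :
    specML A L ϖ hϖ n (fun i => .ofMul (x i)) = symbol fun i => resPart A L ϖ hϖ (x i) := rfl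

theorem specML_steinberg {n : ℕ} (x : Fin n → Lˣ) (hx : IsSteinberg L x) :
    specML A L ϖ hϖ n (fun i => .ofMul (x i)) = 0 := by
  obtain ⟨i, j, hij, h⟩ := hx
  rw [specML_apply]
  rcases lt_trichotomy (valHom A L ϖ hϖ (.ofMul (x i))) 0 with hi | hi | hi
  · obtain ⟨-, hr⟩ := steinberg_neg A L ϖ hϖ h hi
    conv_lhs => rw [← update_eq_self i (fun l => resPart A L ϖ hϖ (x l)),
      ← update_eq_self j (update (fun l => resPart A L ϖ hϖ (x l)) i _), update_of_ne hij.ne', hr]
    exact symbol_neg_update _ hij.ne _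
  · rcases lt_trichotomy (valHom A L ϖ hϖ (.ofMul (x j))) 0 with hj | hj | hj
    · have := (steinberg_neg A L ϖ hϖ ((add_comm _ _).trans h) hj).1
      omega
    · refine symbol_steinberg _ hij.ne ?_
      have ei := decomp A L ϖ hϖ (x i)
      have ej := decomp A L ϖ hϖ (x j)
      have hi' : expo A L ϖ hϖ (x i) = 0 := hi
      have hj' : expo A L ϖ hϖ (x j) = 0 := hj
      rw [hi', zpow_zero, one_mul] at ei
      rw [hj', zpow_zero, one_mul] at ej
      rw [ei, ej, coe_unitToFrac, coe_unitToFrac, ← map_add, ← map_one (algebraMap A L)] at h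
      have := congrArg (residue A) (IsFractionRing.injective A L h)
      rw [map_add, map_one] at this
      exact this
    · exact symbol_eq_zero_of_eq_one (i := i)
        (steinberg_pos A L ϖ hϖ ((add_comm _ _).trans h) hj).2
  · exact symbol_eq_zero_of_eq_one (i := j) (steinberg_pos A L ϖ hϖ h hi).2

/-- The specialization map of the chosen uniformizer. -/
noncomputable def spec (n : ℕ) : K L n →+ K κ n :=
  MilK.lift (specML A L ϖ hϖ n) (specML_steinberg A L ϖ hϖ)

@[simp]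
theorem spec_symbol {n : ℕ} (x : Fin n → Lˣ) :
    spec A L ϖ hϖ n (symbol x) = symbol fun i => resPart A L ϖ hϖ (x i) :=
  lift_symbol _ _ x

theorem spec_lmul {n : ℕ} (a : Lˣ) (z : K L n) :
    spec A L ϖ hϖ (n + 1) (lmul a z) = lmul (resPart A L ϖ hϖ a) (spec A L ϖ hϖ n z) := by
  suffices (spec A L ϖ hϖ (n + 1)).comp (lmul a) = (lmul _).comp (spec A L ϖ hϖ n) from
    DFunLike.congr_fun this z
  refine hom_ext fun x => ?_
  simp only [AddMonoidHom.comp_apply, lmul_symbol, spec_symbol]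
  congr 1
  funext i
  refine Fin.cases ?_ (fun j => ?_) i <;> simp

/-- One step of the recursion for the tame symbol. -/
noncomputable def stepHom {n : ℕ} (ψ : K L n →+ Additive κˣ →+ K κ n) :
    Additive Lˣ →+ K L n →+ K κ n :=
  AddMonoidHom.mk' (fun a => valHom A L ϖ hϖ a • (spec A L ϖ hϖ n + ψ.flip (.ofMul (-1))) -
      ψ.flip (resAdd A L ϖ hϖ a))
    fun a b => by simp only [map_add, add_smul]; abel

theorem stepHom_apply {n : ℕ} (ψ : K L n →+ Additive κˣ →+ K κ n) (a : Lˣ) (z : K L n) :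
    stepHom A L ϖ hϖ ψ (.ofMul a) z =
      valHom A L ϖ hϖ (.ofMul a) • (spec A L ϖ hϖ n z + ψ z (.ofMul (-1))) -
        ψ z (.ofMul (resPart A L ϖ hϖ a)) := rfl

/-- The multilinear map attached to a step of the recursion. -/
noncomputable def stepML {n : ℕ} (ψ : K L n →+ Additive κˣ →+ K κ n) :
    MultilinearMap ℤ (fun _ : Fin (n + 1) => Additive Lˣ) (K κ n) :=
  LinearMap.uncurryLeft (AddMonoidHom.toIntLinearMap (AddMonoidHom.mk'
    (fun a => ((stepHom A L ϖ hϖ ψ a).toIntLinearMap).compMultilinearMap (symML L n))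
    fun a b => by ext y; simp [map_add]))

theorem stepML_cons {n : ℕ} (ψ : K L n →+ Additive κˣ →+ K κ n) (x : Fin (n + 1) → Lˣ) :
    stepML A L ϖ hϖ ψ (fun i => .ofMul (x i)) =
      stepHom A L ϖ hϖ ψ (.ofMul (x 0)) (symbol (Fin.tail x)) := rfl

/-- The data carried through the recursion for the tame symbol. -/
structure TameData (n : ℕ) where
  ψ : K L n →+ Additive κˣ →+ K κ n
  good : ∀ z, Good (ψ z)
  wd : ∀ x : Fin (n + 1) → Lˣ, IsSteinberg L x → stepML A L ϖ hϖ ψ (fun i => .ofMul (x i)) = 0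

variable {A L} in
theorem symbol_tail_eq_neg {n : ℕ} (x : Fin (n + 2) → Lˣ) (j : Fin (n + 1)) (hj : j ≠ 0) :
    (symbol (Fin.tail x) : K L (n + 1)) =
      -symbol (Fin.cons (x j.succ) (Fin.tail (Fin.tail x ∘ Equiv.swap 0 j))) := by
  rw [eq_neg_iff_add_eq_zero, show (Fin.cons (x j.succ) (Fin.tail (Fin.tail x ∘ Equiv.swap 0 j)) :
      Fin (n + 1) → Lˣ) = Fin.tail x ∘ Equiv.swap 0 j from ?_, symbol_comp_swap _ hj.symm, add_neg_cancel]
  funext i
  refine Fin.cases ?_ (fun k => ?_) i <;> simp [Fin.tail]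

theorem tame_aux {n : ℕ} (ψ : K L n →+ Additive κˣ →+ K κ n) (hgood : ∀ z, Good (ψ z))
    (D : K L (n + 1) →+ K κ n)
    (hD : ∀ x : Fin (n + 1) → Lˣ, D (symbol x) =
      stepHom A L ϖ hϖ ψ (.ofMul (x 0)) (symbol (Fin.tail x)))
    (x : Fin (n + 2) → Lˣ) (hx : IsSteinberg L x) :
    stepML A L ϖ hϖ ((lmulHom (F := κ) (n := n)).flip.comp D) (fun i => .ofMul (x i)) = 0 := by
  obtain ⟨i, j, hij, h⟩ := hx
  rw [stepML_cons]
  rcases Fin.eq_zero_or_eq_succ i with rfl | ⟨i', rfl⟩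
  swap
  · obtain ⟨j', rfl⟩ := Fin.exists_succ_eq.2 (Fin.ne_zero_of_lt hij)
    rw [symbol_eq_zero_of_isSteinberg (Fin.tail x) ⟨i', j', Fin.succ_lt_succ_iff.1 hij, h⟩, map_zero]
  obtain ⟨j', rfl⟩ := Fin.exists_succ_eq.2 (Fin.ne_zero_of_lt hij)
  -- reduce to two adjacent entries
  suffices key : ∀ t : Fin n → Lˣ,
      stepHom A L ϖ hϖ ((lmulHom (F := κ) (n := n)).flip.comp D) (.ofMul (x 0))
        (symbol (Fin.cons (x j'.succ) t)) = 0 by
    by_cases hj : j' = 0
    · subst hj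
      have := key (Fin.tail (Fin.tail x))
      rwa [show (Fin.cons (x (Fin.succ 0)) (Fin.tail (Fin.tail x)) : Fin (n + 1) → Lˣ) = Fin.tail x
        from Fin.cons_self_tail (Fin.tail x)] at this
    · rw [symbol_tail_eq_neg x j' hj, map_neg, key, neg_zero]
  intro t
  generalize x j'.succ = b at h ⊢
  generalize x 0 = a at h ⊢
  rw [stepHom_apply]
  simp only [AddMonoidHom.comp_apply, spec_symbol, hD, Fin.cons_zero, Fin.tail_cons, stepHom_apply,
    lmulHom, AddMonoidHom.flip_apply, AddMonoidHom.mk'_apply, toMul_ofMul]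
  set σ := symbol (fun i => resPart A L ϖ hϖ (t i)) with hσ
  set f := ψ (symbol t) with hf
  have hg := hgood (symbol t)
  rw [← hf] at hg
  have hsym : (symbol fun i => resPart A L ϖ hϖ ((Fin.cons b t : Fin (n + 1) → Lˣ) i)) =
      lmul (resPart A L ϖ hϖ b) σ := by
    rw [hσ, lmul_symbol]
    congr 1
    funext i
    refine Fin.cases ?_ (fun k => ?_) i <;> simp
  rw [hsym]
  rcases lt_trichotomy (valHom A L ϖ hϖ (.ofMul a)) 0 with hi | hi | hi
  · obtain ⟨hv, hr⟩ := steinberg_neg A L ϖ hϖ h hi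
    rw [hv, hr]
    generalize valHom A L ϖ hϖ (.ofMul a) = k
    generalize resPart A L ϖ hϖ a = c
    have n1 := hg.neg c
    have n2 := hg.comm (-1) c
    have e1 : f (.ofMul (-c)) = f (.ofMul c) + f (.ofMul (-1)) := by
      rw [← map_add, ← ofMul_mul, mul_neg_one]
    have e2 : lmul (-c) σ = lmul c σ + lmul (-1) σ := by rw [← lmul_mul, mul_neg_one]
    have t1 := two_lmul_neg_one σ
    have t2 := two_lmul_neg_one (f (.ofMul (-1)))
    obtain ⟨m, hm⟩ : Even (k * (k + 1)) := Int.even_mul_succ_self k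
    simp only [map_sub, map_add, map_zsmul, e2, n1]
    rw [e1, map_add, n2]
    have key' : (k * (k + 1)) • lmul (-1) σ = 0 := by
      rw [hm, add_smul, ← smul_add, t1, smul_zero]
    have key'' : (k * (k + 1) - (k + k)) • lmul (-1) (f (.ofMul (-1))) = 0 := by
      rw [sub_smul, hm, add_smul, add_smul, ← smul_add, ← smul_add, t2, smul_zero, smul_zero, sub_zero]
    calc _ = (k * (k + 1)) • lmul (-1) σ +
          (k * (k + 1) - (k + k)) • lmul (-1) (f (.ofMul (-1))) := by module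
      _ = 0 := by rw [key', key'', add_zero]
  · rcases lt_trichotomy (valHom A L ϖ hϖ (.ofMul b)) 0 with hj | hj | hj
    · have := (steinberg_neg A L ϖ hϖ ((add_comm _ _).trans h) hj).1
      omega
    · have hres : ((resPart A L ϖ hϖ a : κˣ) : κ) + resPart A L ϖ hϖ b = 1 := by
        have ei := decomp A L ϖ hϖ a
        have ej := decomp A L ϖ hϖ b
        have hi' : expo A L ϖ hϖ a = 0 := hi
        have hj' : expo A L ϖ hϖ b = 0 := hj
        rw [hi', zpow_zero, one_mul] at ei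
        rw [hj', zpow_zero, one_mul] at ej
        rw [ei, ej, coe_unitToFrac, coe_unitToFrac, ← map_add, ← map_one (algebraMap A L)] at h
        have := congrArg (residue A) (IsFractionRing.injective A L h)
        rw [map_add, map_one] at this
        exact this
      rw [hi, hj, zero_smul, zero_smul, zero_sub, zero_sub, map_neg, hg.steinberg _ _ hres, neg_zero,
        neg_zero]
    · obtain ⟨-, hr⟩ := steinberg_pos A L ϖ hϖ ((add_comm _ _).trans h) hj
      rw [hi, hr, zero_smul, zero_sub, lmul_one, neg_zero]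
  · obtain ⟨hv, hr⟩ := steinberg_pos A L ϖ hϖ h hi
    rw [hv, hr, zero_smul, zero_sub, ofMul_one, map_zero, neg_zero, lmul_one, map_zero, map_zero,
      add_zero, smul_zero, sub_zero]

/-- The recursion defining the tame symbol. -/
noncomputable def tameData : ∀ n, TameData A L ϖ hϖ n
  | 0 => ⟨0, fun _ => good_zero, fun x hx => by
      obtain ⟨i, j, hij, -⟩ := hx
      exact absurd hij (by simp [Fin.lt_def])⟩
  | n + 1 =>
    ⟨(lmulHom (F := κ) (n := n)).flip.comp
        (MilK.lift (stepML A L ϖ hϖ (tameData n).ψ) (tameData n).wd),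
      fun _ => good_lmulHom _,
      tame_aux A L ϖ hϖ (tameData n).ψ (tameData n).good _ fun x => by rw [lift_symbol, stepML_cons]⟩

/-- The auxiliary bilinear term in the formula for the tame symbol. -/
noncomputable def psi (n : ℕ) : K L n →+ Additive κˣ →+ K κ n := (tameData A L ϖ hϖ n).ψ

/-- The tame symbol. -/
noncomputable def tame (n : ℕ) : K L (n + 1) →+ K κ n :=
  MilK.lift (stepML A L ϖ hϖ (tameData A L ϖ hϖ n).ψ) (tameData A L ϖ hϖ n).wd

theorem psi_zero : psi A L ϖ hϖ 0 = 0 := rfl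

theorem psi_succ {n : ℕ} (z : K L (n + 1)) (c : κˣ) :
    psi A L ϖ hϖ (n + 1) z (.ofMul c) = lmul c (tame A L ϖ hϖ n z) := rfl

theorem tame_lmul {n : ℕ} (a : Lˣ) (z : K L n) :
    tame A L ϖ hϖ n (lmul a z) =
      valHom A L ϖ hϖ (.ofMul a) • (spec A L ϖ hϖ n z + psi A L ϖ hϖ n z (.ofMul (-1))) -
        psi A L ϖ hϖ n z (.ofMul (resPart A L ϖ hϖ a)) := by
  suffices (tame A L ϖ hϖ n).comp (lmul a) = stepHom A L ϖ hϖ (psi A L ϖ hϖ n) (.ofMul a) from
    DFunLike.congr_fun this z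
  refine hom_ext fun x => ?_
  rw [AddMonoidHom.comp_apply, lmul_symbol, tame, lift_symbol, stepML_cons, Fin.cons_zero,
    Fin.tail_cons]
  rfl

theorem tame_units : ∀ (n : ℕ) (u : Fin (n + 1) → Aˣ),
    tame A L ϖ hϖ n (symbol fun i => ι (u i)) = 0 := by
  intro n
  induction n with
  | zero =>
    intro u
    rw [show (fun i => ι (u i)) = Fin.cons (ι (u 0)) (Fin.tail fun i => ι (u i)) from
      (Fin.cons_self_tail _).symm, ← lmul_symbol, tame_lmul, psi_zero]
    simp
  | succ n ih =>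
    intro u
    rw [show (fun i => ι (u i)) = Fin.cons (ι (u 0)) (fun i => ι (u i.succ)) from
      (Fin.cons_self_tail _).symm, ← lmul_symbol, tame_lmul, valHom_unit, zero_smul, zero_sub,
      psi_succ, ih, map_zero, neg_zero]

theorem psi_units {n : ℕ} (u : Fin n → Aˣ) (c : κˣ) :
    psi A L ϖ hϖ n (symbol fun i => ι (u i)) (.ofMul c) = 0 := by
  cases n with
  | zero => rfl
  | succ n => rw [psi_succ, tame_units, map_zero]

theorem tame_lmul_units {n : ℕ} (a : Lˣ) (u : Fin n → Aˣ) :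
    tame A L ϖ hϖ n (lmul a (symbol fun i => ι (u i))) =
      valHom A L ϖ hϖ (.ofMul a) • symbol fun i => unitResidue A (u i) := by
  rw [tame_lmul, psi_units, psi_units, add_zero, sub_zero, spec_symbol]
  simp

theorem isTameSymbol_tame (n : ℕ) : IsTameSymbol A L n (tame A L ϖ hϖ n) := fun p hp u => by
  rw [← lmul_symbol, tame_lmul_units, valHom_irreducible A L ϖ hϖ p hp, one_smul]

theorem isSpecMap_spec (n : ℕ) : IsSpecMap A L ϖ hϖ n (spec A L ϖ hϖ n) := fun e u => by
  rw [spec_symbol]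
  exact congrArg symbol (funext fun i => resPart_eq A L ϖ hϖ rfl)

theorem IsSpecMap.eq_spec {n : ℕ} {s : K L n →+ K κ n} (hs : IsSpecMap A L ϖ hϖ n s) :
    s = spec A L ϖ hϖ n := by
  refine hom_ext fun x => ?_
  have := hs (fun i => expo A L ϖ hϖ (x i)) fun i => uPart A L ϖ hϖ (x i)
  simp only [← decomp] at this
  rw [this, spec_symbol]
  rfl

end GrothLib.MilnorK
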